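import Groth.Agent.H15Site.QcColim
import Groth.Agent.H10Coh.HigherDirect2
import Groth.Agent.H10Coh.SchemeH
import Mathlib.AlgebraicGeometry.Properties

/-!
# Filtered colimits and direct image along quasi-compact quasi-separated morphisms
-/

set_option autoImplicit false
set_option linter.style.haveILetI false

universe u

open CategoryTheory CategoryTheory.Limits AlgebraicGeometry Opposite TopologicalSpace

namespace Groth.Agent.H16Derived.ColimPush

open Groth.Agent.H10Coh Groth.Agent.H15Site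

attribute [local instance 10000] hasSheafifyAb hasWeakSheafifyAb hasExtAb enoughInjAb

variable {X S : Scheme.{u}} {J : Type u} [SmallCategory J] [IsFiltered J] {D : J ⥤ X.Modules}
  {c : Cocone D}

theorem nonempty_isColimit_sh (hc : IsColimit c) : Nonempty (IsColimit ((shF X).mapCocone c)) :=
  haveI : PreservesColimitsOfShape J (shF X) := preservesColimitsOfShape_toSheaf X.ringCatSheaf J
  ⟨isColimitOfPreserves (shF X) hc⟩

theorem exists_kill (hc : IsColimit c) {U : X.Opens} (hU : IsCompact (U : Set X)) {i : J}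
    (s : Γ(D.obj i, U)) (hs : (c.ι.app i).app U s = 0) :
    ∃ (j : J) (k : i ⟶ j), (D.map k).app U s = 0 :=
  QcColim.exists_map_eq_zero (nonempty_isColimit_sh hc).some hU s hs

theorem exists_local_section (hc : IsColimit c) {U : X.Opens} (x : Γ(c.pt, U)) {p : X} (hp : p ∈ U) :
    ∃ (V : X.Opens) (h : V ≤ U) (_ : p ∈ V) (i : J) (s : Γ(D.obj i, V)),
      (c.ι.app i).app V s = rs _ h x :=
  QcColim.exists_local_rep (nonempty_isColimit_sh hc).some x hp

theorem exists_section (hc : IsColimit c) {U : X.Opens} (hU : IsCompact (U : Set X))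
    [QuasiSeparatedSpace (U : Scheme.{u})] (x : Γ(c.pt, U)) :
    ∃ (i : J) (s : Γ(D.obj i, U)), (c.ι.app i).app U s = x := by
  let R := Scheme.Modules.restrictFunctor U.ι
  haveI : PreservesColimitsOfSize.{u, u} R := (Scheme.Modules.restrictAdjunction U.ι).leftAdjoint_preservesColimits
  haveI : PrespectralSpace (U : Scheme.{u}).toTopCat := inferInstanceAs (PrespectralSpace (U : Scheme.{u}))
  haveI : QuasiSeparatedSpace (U : Scheme.{u}).toTopCat := ‹QuasiSeparatedSpace (U : Scheme.{u})›
  haveI : CompactSpace (U : Scheme.{u}).toTopCat := isCompact_iff_compactSpace.1 hU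
  have hle : U.ι ''ᵁ ⊤ ≤ U := U.ι_image_top.le
  obtain ⟨i, s, hs⟩ := QcColim.exists_rep (nonempty_isColimit_sh (isColimitOfPreserves R hc)).some
    (U := ⊤) isCompact_univ (rs c.pt hle x)
  refine ⟨i, rs (D.obj i) U.ι_image_top.ge s, ?_⟩
  refine (app_rs (c.ι.app i) U.ι_image_top.ge s).trans ?_
  refine (congrArg (rs c.pt U.ι_image_top.ge) hs).trans ?_
  exact (rs_rs _ _ _ x).trans (rs_self _ _ x)

variable (f : X ⟶ S) [QuasiCompact f] [QuasiSeparated f]

theorem isIso_post (D : J ⥤ X.Modules) :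
    IsIso (colimit.post D (Scheme.Modules.pushforward f)) := by
  let P := Scheme.Modules.pushforward f
  let φ := colimit.post D P
  have hι : ∀ (j : J) (W : S.Opens) (t : Γ(D.obj j, f ⁻¹ᵁ W)),
      φ.app W ((colimit.ι (D ⋙ P) j).app W t) = (colimit.ι D j).app (f ⁻¹ᵁ W) t := fun j W t => by
    rw [← ConcreteCategory.comp_apply, ← Scheme.Modules.Hom.comp_app, colimit.ι_post]
    rfl
  have hepi : Epi φ := by
    apply (shF S).epi_of_epi_map
    refine epi_of_locally_surjective _ fun U t x hx => ?_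
    obtain ⟨V, hV, hxV, hVU⟩ := Opens.isBasis_iff_nbhd.1 S.isBasis_affineOpens hx
    haveI : IsAffine (V : Scheme.{u}) := hV
    haveI : QuasiSeparatedSpace (f ⁻¹ᵁ V : Scheme.{u}) := quasiSeparatedSpace_of_quasiSeparated (f ∣_ V)
    obtain ⟨i, s, hs⟩ := exists_section (colimit.isColimit D)
      (QuasiCompact.isCompact_preimage (f := f) _ V.isOpen hV.isCompact) (rs _ hVU t)
    exact ⟨V, hVU, hxV, (colimit.ι (D ⋙ P) i).app V s, (hι i V s).trans hs⟩
  have hinj : ∀ U : S.Opens, Function.Injective (φ.app U) := by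
    intro U
    rw [injective_iff_map_eq_zero]
    intro s hs
    have h : ∀ x : U, ∃ (V : S.Opens) (hV : V ≤ U), x.1 ∈ V ∧ rs _ hV s = 0 := by
      rintro ⟨x, hx⟩
      obtain ⟨V₀, hV₀, hxV₀, i, t, ht⟩ := exists_local_section (colimit.isColimit (D ⋙ P)) s hx
      obtain ⟨V, hV, hxV, hVV₀⟩ := Opens.isBasis_iff_nbhd.1 S.isBasis_affineOpens hxV₀
      refine ⟨V, hVV₀.trans hV₀, hxV, ?_⟩
      have h1 : (colimit.ι (D ⋙ P) i).app V (rs _ hVV₀ t) = rs _ (hVV₀.trans hV₀) s :=
        ((app_rs (colimit.ι (D ⋙ P) i) hVV₀ t).trans (congrArg (rs _ hVV₀) ht)).trans (rs_rs _ _ _ s)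
      have h2 : (colimit.ι D i).app (f ⁻¹ᵁ V) (rs (P.obj (D.obj i)) hVV₀ t) = 0 := by
        refine (hι i V _).symm.trans ((congrArg (φ.app V) h1).trans ?_)
        exact (app_rs φ (hVV₀.trans hV₀) s).trans ((congrArg _ hs).trans (map_zero _))
      obtain ⟨j, k, hk⟩ := exists_kill (colimit.isColimit D)
        (QuasiCompact.isCompact_preimage (f := f) _ V.isOpen hV.isCompact) _ h2
      refine h1.symm.trans ?_
      rw [← colimit.w (D ⋙ P) k, Scheme.Modules.Hom.comp_app, ConcreteCategory.comp_apply]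
      exact (congrArg ((colimit.ι (D ⋙ P) j).app V) hk).trans (map_zero _)
    choose V hV hxV hz using h
    exact TopCat.Sheaf.eq_of_locally_eq' (sheafOf (colimit (D ⋙ P))) V U (fun x => homOfLE (hV x))
      (fun x hx => Opens.mem_iSup.2 ⟨⟨x, hx⟩, hxV _⟩) _ _ fun x => (hz x).trans (map_zero _).symm
  have hmono : Mono φ := by
    apply (shF S).mono_of_mono_map
    apply (sheafToPresheaf _ _).mono_of_mono_map
    refine @NatTrans.mono_of_mono_app _ _ _ _ _ _ _ fun V => ?_
    rw [AddCommGrpCat.mono_iff_injective]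
    exact hinj V.unop
  exact isIso_of_mono_of_epi φ

/-- `f_*` commutes with filtered colimits. -/
theorem preservesFilteredColimits_pushforward (J : Type u) [SmallCategory J] [IsFiltered J] :
    PreservesColimitsOfShape J (Scheme.Modules.pushforward f) :=
  ⟨fun {D} => haveI := isIso_post f D; preservesColimit_of_isIso_post _ D⟩

/-- Filtered colimits of modules with flasque sheaves are acyclic. -/
theorem isZero_rpush_colimit_of_flasque [HasInjectiveResolutions X.Modules] (hc : IsColimit c)
    (hD : ∀ j, Flasque (sh (D.obj j))) (n : ℕ) :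
    IsZero ((Coh.Rpush f (n + 1)).obj c.pt) := by
  rw [IsZero.iff_id_eq_zero]
  refine (shF S).map_injective (IsZero.eq_of_src ?_ _ _)
  refine IsZero.of_iso ?_ (nonempty_toAb_rpush f c.pt (n + 1)).some
  refine isZero_rpush_of_vanishing f.base (Coh.toAb c.pt) n (affB S) (isBasis_affB S) fun W hW => ?_
  let U := f ⁻¹ᵁ W
  haveI : IsAffine (W : Scheme.{u}) := hW
  haveI : QuasiSeparatedSpace (U : Scheme.{u}) := quasiSeparatedSpace_of_quasiSeparated (f ∣_ W)
  haveI : CompactSpace (U : Scheme.{u}).toTopCat :=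
    isCompact_iff_compactSpace.1 (QuasiCompact.isCompact_preimage (f := f) _ W.isOpen hW.isCompact)
  haveI : PrespectralSpace (U : Scheme.{u}).toTopCat := inferInstanceAs (PrespectralSpace (U : Scheme.{u}))
  haveI : QuasiSeparatedSpace (U : Scheme.{u}).toTopCat := ‹QuasiSeparatedSpace (U : Scheme.{u})›
  let R := Scheme.Modules.restrictFunctor U.ι
  haveI : PreservesColimitsOfSize.{u, u} R := (Scheme.Modules.restrictAdjunction U.ι).leftAdjoint_preservesColimits
  have hq := QcColim.qcFlasque_colimit (nonempty_isColimit_sh (isColimitOfPreserves R hc)).some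
    fun j _ _ h _ _ => flasque_Rf U.ι.isOpenEmbedding (hD j) h
  exact subsingleton_HnM_image U.ι c.pt (n + 1) ⊤ U U.ι_image_top
    (QcColim.subsingleton_of_qcFlasque hq n ⊤ isCompact_univ)

end Groth.Agent.H16Derived.ColimPush
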