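import Groth.Agent.H16Derived.ColimPush.Trunc
import Groth.Agent.H16Derived.QCohD.AcyclicUnit
import Groth.Agent.H26Tor.Exact
import Mathlib.Algebra.Homology.HomologicalComplexLimits

/-!
# Colimits of uniformly bounded below complexes and `Rf_*`
-/

set_option autoImplicit false
set_option linter.style.haveILetI false

universe w w' u

open CategoryTheory CategoryTheory.Limits AlgebraicGeometry

attribute [local instance] HasDerivedCategory.standard

namespace Groth.Agent.H16Derived.ColimPush

open Groth.Agent.H16Derived.KFlat.Stalk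

variable {X Y : Scheme.{u}} (f : X ⟶ Y) [DCoh.HasRpush f]

/-- `H^i` of the direct image of complexes. -/
noncomputable abbrev G₂ (i : ℤ) : CochainComplex X.Modules ℤ ⥤ Y.Modules :=
  (Scheme.Modules.pushforward f).mapHomologicalComplex (ComplexShape.up ℤ) ⋙
    HomologicalComplex.homologyFunctor Y.Modules (ComplexShape.up ℤ) i

/-- `H^i` of the derived direct image. -/
noncomputable abbrev G₁ (i : ℤ) : CochainComplex X.Modules ℤ ⥤ Y.Modules :=
  DerivedCategory.Q ⋙ DCoh.Rpush f ⋙ DerivedCategory.homologyFunctor Y.Modules i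

/-- The comparison. -/
noncomputable def η (i : ℤ) : G₂ f i ⟶ G₁ f i :=
  Functor.whiskerLeft _ (DerivedCategory.homologyFunctorFactors Y.Modules i).inv ≫
    Functor.whiskerLeft _ (Functor.whiskerRight (DerivedCategory.quotientCompQhIso Y.Modules).inv
      (DerivedCategory.homologyFunctor Y.Modules i)) ≫
    Functor.whiskerRight ((Scheme.Modules.pushforward f).mapHomotopyCategoryFactors (ComplexShape.up ℤ)).inv
      (DerivedCategory.Qh ⋙ DerivedCategory.homologyFunctor Y.Modules i) ≫
    Functor.whiskerLeft (HomotopyCategory.quotient X.Modules (ComplexShape.up ℤ))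
      (Functor.whiskerRight (rpushUnit f) (DerivedCategory.homologyFunctor Y.Modules i)) ≫
    Functor.whiskerRight (DerivedCategory.quotientCompQhIso X.Modules).hom
      (DCoh.Rpush f ⋙ DerivedCategory.homologyFunctor Y.Modules i)

theorem isIso_η_app (i : ℤ) (C : CochainComplex X.Modules ℤ)
    (h : IsIso ((rpushUnit f).app ((HomotopyCategory.quotient _ _).obj C))) :
    IsIso ((η f i).app C) := by
  dsimp only [η, NatTrans.comp_app, Functor.whiskerLeft_app, Functor.whiskerRight_app]
  infer_instance

theorem isIso_G₁_map (i : ℤ) {C D : CochainComplex X.Modules ℤ} (φ : C ⟶ D) [QuasiIso φ] :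
    IsIso ((G₁ f i).map φ) := by
  haveI : IsIso (DerivedCategory.Q.map φ) := (DerivedCategory.isIso_Q_map_iff_quasiIso _ φ).2 inferInstance
  exact Functor.map_isIso (DCoh.Rpush f ⋙ DerivedCategory.homologyFunctor Y.Modules i) (DerivedCategory.Q.map φ)

variable {J : Type w} [Category.{w'} J]

omit [DCoh.HasRpush f] in
/-- Cocones related by isomorphisms are simultaneously colimits. -/
theorem nonempty_isColimit_of_isIso {C C' : Type*} [Category C] [Category C'] {D D' : J ⥤ C}
    {c : Cocone D} {c' : Cocone D'} {F F' : C ⥤ C'} (α : ∀ j, F.obj (D.obj j) ⟶ F'.obj (D'.obj j))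
    (φ : F.obj c.pt ⟶ F'.obj c'.pt)
    (hn : ∀ {j k} (g : j ⟶ k), F.map (D.map g) ≫ α k = α j ≫ F'.map (D'.map g))
    (hc : ∀ j, α j ≫ F'.map (c'.ι.app j) = F.map (c.ι.app j) ≫ φ)
    [∀ j, IsIso (α j)] [IsIso φ] :
    Nonempty (IsColimit (F.mapCocone c)) ↔ Nonempty (IsColimit (F'.mapCocone c')) := by
  let e : D ⋙ F ≅ D' ⋙ F' := NatIso.ofComponents (fun j => asIso (α j)) fun {j k} g => hn g
  let w : (Cocone.precompose e.hom).obj (F'.mapCocone c') ≅ F.mapCocone c :=
    Cocone.ext (asIso φ).symm fun j => by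
      show (α j ≫ F'.map (c'.ι.app j)) ≫ inv φ = F.map (c.ι.app j)
      rw [hc, Category.assoc, IsIso.hom_inv_id, Category.comp_id]
  exact ⟨fun ⟨h⟩ => ⟨(IsColimit.precomposeHomEquiv e _) (IsColimit.ofIsoColimit h w.symm)⟩,
    fun ⟨h⟩ => ⟨IsColimit.ofIsoColimit ((IsColimit.precomposeHomEquiv e _).symm h) w⟩⟩

variable [HasColimitsOfShape J X.Modules] [HasColimitsOfShape J Y.Modules]
  [HasExactColimitsOfShape J X.Modules] [HasExactColimitsOfShape J Y.Modules]
  [PreservesColimitsOfShape J (Scheme.Modules.pushforward f)]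

omit [DCoh.HasRpush f] [HasExactColimitsOfShape J X.Modules] in
theorem preservesColimitsOfShape_G₂ (i : ℤ) : PreservesColimitsOfShape J (G₂ f i) := by
  haveI : ∀ q, PreservesColimitsOfShape J
      ((Scheme.Modules.pushforward f).mapHomologicalComplex (ComplexShape.up ℤ) ⋙
        HomologicalComplex.eval Y.Modules (ComplexShape.up ℤ) q) := fun q =>
    preservesColimitsOfShape_of_natIso
      (Iso.refl (HomologicalComplex.eval X.Modules (ComplexShape.up ℤ) q ⋙ Scheme.Modules.pushforward f))
  exact H26Tor.preservesColimitsOfShape_homology _ i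

omit [DCoh.HasRpush f] [HasColimitsOfShape J Y.Modules] [HasExactColimitsOfShape J Y.Modules]
  [PreservesColimitsOfShape J (Scheme.Modules.pushforward f)] in
/-- Colimits of quasi-isomorphisms are quasi-isomorphisms. -/
theorem quasiIso_colimMap {C C' : J ⥤ CochainComplex X.Modules ℤ} (α : C ⟶ C')
    (hα : ∀ j, QuasiIso (α.app j)) : QuasiIso (colimMap α) := by
  haveI : ∀ q, PreservesColimitsOfShape J (𝟭 (CochainComplex X.Modules ℤ) ⋙
      HomologicalComplex.eval X.Modules (ComplexShape.up ℤ) q) := fun q =>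
    preservesColimitsOfShape_of_natIso (Functor.leftUnitor _).symm
  rw [quasiIso_iff]
  intro i
  rw [quasiIsoAt_iff_isIso_homologyMap]
  let H := 𝟭 (CochainComplex X.Modules ℤ) ⋙ HomologicalComplex.homologyFunctor X.Modules (ComplexShape.up ℤ) i
  haveI : PreservesColimitsOfShape J H := H26Tor.preservesColimitsOfShape_homology _ i
  haveI : ∀ j, IsIso (H.map (α.app j)) := fun j => by
    haveI := hα j
    exact inferInstanceAs (IsIso (HomologicalComplex.homologyMap (α.app j) i))
  let e : C ⋙ H ≅ C' ⋙ H := NatIso.ofComponents (fun j => asIso (H.map (α.app j))) fun {j k} g => by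
    show H.map (C.map g) ≫ H.map (α.app k) = H.map (α.app j) ≫ H.map (C'.map g)
    rw [← H.map_comp, ← H.map_comp, α.naturality]
  have hd := IsColimit.coconePointsIsoOfNatIso (isColimitOfPreserves H (colimit.isColimit C))
    (isColimitOfPreserves H (colimit.isColimit C')) e
  have : H.map (colimMap α) = (IsColimit.coconePointsIsoOfNatIso (isColimitOfPreserves H (colimit.isColimit C))
      (isColimitOfPreserves H (colimit.isColimit C')) e).hom := by
    refine (isColimitOfPreserves H (colimit.isColimit C)).hom_ext fun j => ?_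
    rw [IsColimit.comp_coconePointsIsoOfNatIso_hom]
    show H.map (colimit.ι C j) ≫ H.map (colimMap α) = H.map (α.app j) ≫ H.map (colimit.ι C' j)
    rw [← H.map_comp, ← H.map_comp, ι_colimMap]
  show IsIso (H.map (colimMap α))
  rw [this]
  infer_instance

variable
  (hac : ∀ [HasInjectiveResolutions X.Modules] (D : J ⥤ X.Modules) (c : Cocone D), IsColimit c →
    (∀ j, Injective (D.obj j)) → ∀ p : ℕ, IsZero ((Coh.Rpush f (p + 1)).obj c.pt))

include hac in
/-- Strictly bounded below complexes of injectives: the colimit computes `Rf_*`. -/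
theorem isIso_rpushUnit_colimit (E : J ⥤ CochainComplex X.Modules ℤ) (n : ℤ)
    (hE : ∀ j, (E.obj j).IsStrictlyGE n) (hi : ∀ j q, Injective ((E.obj j).X q)) :
    IsIso ((rpushUnit f).app ((HomotopyCategory.quotient _ _).obj (colimit E))) := by
  haveI := QCohD.hasInjectiveResolutions_modules (X := X)
  haveI : (colimit E).IsStrictlyGE n := (CochainComplex.isStrictlyGE_iff _ _).2 fun q hq => by
    rw [IsZero.iff_id_eq_zero]
    exact (isColimitOfPreserves (HomologicalComplex.eval X.Modules (ComplexShape.up ℤ) q)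
      (colimit.isColimit E)).hom_ext fun j =>
        (CochainComplex.isZero_of_isStrictlyGE (E.obj j) n q hq).eq_of_src _ _
  refine QCohD.AffineUnit.hasInjectiveResolutions_rpush f (colimit E) n fun q p hp => ?_
  obtain ⟨p, rfl⟩ : ∃ m, p = m + 1 := ⟨p - 1, by omega⟩
  exact hac _ _ (isColimitOfPreserves (HomologicalComplex.eval X.Modules (ComplexShape.up ℤ) q)
    (colimit.isColimit E)) (fun j => hi j q) p

include hac in
/-- `H^i Rf_*` commutes with colimits of uniformly bounded below complexes. -/
theorem nonempty_isColimit (C : J ⥤ CochainComplex X.Modules ℤ) {c : Cocone C} (hc : IsColimit c)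
    (n : ℤ) (hC : ∀ j, (C.obj j).IsGE n) (i : ℤ) :
    Nonempty (IsColimit ((G₁ f i).mapCocone c)) := by
  haveI := isGrothendieckAbelian_modules (X := X)
  haveI : EnoughInjectives X.Modules := inferInstance
  obtain ⟨T, η', hT⟩ := exists_resolution (A := X.Modules) n
  let C' := C ⋙ T
  let α : C ⟶ C' := Functor.whiskerLeft C η'
  haveI hq : ∀ j, QuasiIso (α.app j) := fun j => (hT (C.obj j) (hC j)).1
  have hu := isIso_rpushUnit_colimit f hac C' n (fun j => (hT (C.obj j) (hC j)).2.1)
    fun j => (hT (C.obj j) (hC j)).2.2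
  haveI := quasiIso_colimMap α hq
  haveI := preservesColimitsOfShape_G₂ (J := J) f i
  have h₂ : Nonempty (IsColimit ((G₂ f i).mapCocone (colimit.cocone C'))) :=
    ⟨isColimitOfPreserves _ (colimit.isColimit C')⟩
  haveI := isIso_η_app f i (colimit C') hu
  haveI : ∀ j, IsIso ((η f i).app (C'.obj j)) := fun j => isIso_η_app f i _ (by
    haveI := (hT (C.obj j) (hC j)).2.1
    haveI := (hT (C.obj j) (hC j)).2.2
    haveI := CochainComplex.isKInjective_of_injective (T.obj (C.obj j)) n
    exact isIso_rpushUnit f (T.obj (C.obj j)))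
  have h₁ : Nonempty (IsColimit ((G₁ f i).mapCocone (colimit.cocone C'))) :=
    (nonempty_isColimit_of_isIso (c := colimit.cocone C') (c' := colimit.cocone C')
      (fun j => (η f i).app (C'.obj j)) ((η f i).app (colimit C'))
      (fun g => (η f i).naturality _) (fun j => ((η f i).naturality _).symm)).1 h₂
  let e : c.pt ≅ colimit C := hc.coconePointUniqueUpToIso (colimit.isColimit C)
  haveI : ∀ j, IsIso ((G₁ f i).map (α.app j)) := fun j => isIso_G₁_map f i _
  haveI := isIso_G₁_map f i (colimMap α)
  haveI : IsIso ((G₁ f i).map (e.hom ≫ colimMap α)) := by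
    rw [Functor.map_comp]
    infer_instance
  refine (nonempty_isColimit_of_isIso (c := c) (c' := colimit.cocone C')
    (fun j => (G₁ f i).map (α.app j)) ((G₁ f i).map (e.hom ≫ colimMap α))
    (fun g => by rw [← Functor.map_comp, ← Functor.map_comp, α.naturality]) (fun j => ?_)).2 h₁
  rw [← Functor.map_comp, ← Functor.map_comp, ← Category.assoc,
    hc.comp_coconePointUniqueUpToIso_hom]
  exact congrArg (G₁ f i).map (ι_colimMap α j).symm

end Groth.Agent.H16Derived.ColimPush
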