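import Groth.Agent.H16Derived.ColimPush.Derived
import Groth.Agent.H16Derived.ColimPush.Sheaf
import Groth.Agent.H10Coh.QCohExt

/-!
# Filtered colimits and `Rf_*` for complexes with quasi-coherent cohomology
-/

set_option autoImplicit false
set_option linter.style.haveILetI false

universe u

open CategoryTheory CategoryTheory.Limits CategoryTheory.Pretriangulated AlgebraicGeometry
open DerivedCategory

attribute [local instance] HasDerivedCategory.standard

namespace Groth.Agent.H16Derived.ColimPush

open Groth.Agent.H16Derived.QCohD.AffineUnit Groth.Agent.H16Derived.KFlat.Stalk Groth.Agent.H16Derived.QCohD Groth.Agent.H10Coh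

theorem isIso_map_colimMap {A B : Type*} [Category A] [Category B] {J : Type*} [Category J]
    (H : A ⥤ B) {C C' : J ⥤ A} [HasColimit C] [HasColimit C'] [PreservesColimit C H] [PreservesColimit C' H]
    (α : C ⟶ C') (h : ∀ j, IsIso (H.map (α.app j))) : IsIso (H.map (colimMap α)) := by
  let e : C ⋙ H ≅ C' ⋙ H := NatIso.ofComponents (fun j => asIso (H.map (α.app j))) fun {j k} g => by
    show H.map (C.map g) ≫ H.map (α.app k) = H.map (α.app j) ≫ H.map (C'.map g)
    rw [← H.map_comp, ← H.map_comp, α.naturality]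
  have : H.map (colimMap α) = (IsColimit.coconePointsIsoOfNatIso (isColimitOfPreserves H (colimit.isColimit C))
      (isColimitOfPreserves H (colimit.isColimit C')) e).hom := by
    refine (isColimitOfPreserves H (colimit.isColimit C)).hom_ext fun j => ?_
    rw [IsColimit.comp_coconePointsIsoOfNatIso_hom]
    show H.map (colimit.ι C j) ≫ H.map (colimMap α) = H.map (α.app j) ≫ H.map (colimit.ι C' j)
    rw [← H.map_comp, ← H.map_comp, ι_colimMap]
  rw [this]
  infer_instance

variable {X Y : Scheme.{u}} (f : X ⟶ Y) [QuasiCompact f] [QuasiSeparated f] [DCoh.HasRpush f]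

omit [DCoh.HasRpush f] in
theorem isIso_HD_Q_map {C C' : CochainComplex X.Modules ℤ} (φ : C ⟶ C') (i : ℤ)
    (h : IsIso (HomologicalComplex.homologyMap φ i)) :
    IsIso ((homologyFunctor X.Modules i).map (Q.map φ)) :=
  (NatIso.isIso_map_iff (homologyFunctorFactors X.Modules i) φ).2 h

/-- Maps which are isomorphisms in high degrees give isomorphisms on `H^i Rf_*` over an affine. -/
theorem isIso_restrict_map {W : Y.Opens} (hW : IsAffineOpen W) :
    ∃ N : ℕ, ∀ {K K' : DCoh.D X} (ψ : K ⟶ K'), DCoh.IsQCohD K → DCoh.IsQCohD K' → ∀ (n i : ℤ),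
      (∀ j, n ≤ j → IsIso ((homologyFunctor X.Modules j).map ψ)) → n + N ≤ i →
      IsIso ((Scheme.Modules.restrictFunctor W.ι).map
        ((homologyFunctor Y.Modules i).map ((DCoh.Rpush f).map ψ))) := by
  haveI : IsAffine (W : Scheme.{u}) := hW
  haveI := KFlat.GammaAcyclic.hasRpush (f ∣_ W)
  obtain ⟨N, hN⟩ := exists_bound (f ∣_ W)
  refine ⟨N, fun {K K'} ψ hK hK' n i hψ hi => ?_⟩
  letI := rpushCommShift f
  haveI := rpush_isTriangulated f
  obtain ⟨Z, b, c, hT⟩ := distinguished_cocone_triangle ψ
  have hZq : DCoh.IsQCohD Z := isQCohD_obj₃ hT hK hK'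
  have hZ : DerivedCategory.IsLE Z (n - 1) := by
    rw [DerivedCategory.isLE_iff]
    intro j hj
    haveI := hψ j (by omega)
    haveI := hψ (j + 1) (by omega)
    refine (HomologySequence.exact₃ _ hT j (j + 1) rfl).isZero_X₂ ?_ ?_
    · exact (cancel_epi ((homologyFunctor X.Modules j).map ψ)).1
        ((((homologyFunctor X.Modules j).map_comp _ _).symm.trans
          ((congrArg _ (comp_distTriang_mor_zero₁₂ _ hT)).trans (Functor.map_zero _ _ _))).trans comp_zero.symm)
    · have hd := HomologySequence.δ_comp _ hT j (j + 1) rfl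
      exact (Category.comp_id _).symm.trans ((congrArg (HomologySequence.δ _ j (j + 1) rfl ≫ ·)
          (IsIso.hom_inv_id ((homologyFunctor X.Modules (j + 1)).map ψ)).symm).trans
          ((Category.assoc _ _ _).symm.trans ((congrArg (· ≫ _) hd).trans zero_comp)))
  obtain ⟨e⟩ := nonempty_restrictD_rpush_iso f W
  let R := Scheme.Modules.restrictFunctor W.ι
  have hzero : ∀ j : ℤ, n - 1 + N ≤ j → IsZero (R.obj (DCoh.HD ((DCoh.Rpush f).obj Z) j)) := by
    intro j hj
    haveI : DerivedCategory.IsLE ((DCoh.restrictD (f ⁻¹ᵁ W).ι).obj Z) (n - 1) :=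
      haveI := hZ
      isLE_rd (f ⁻¹ᵁ W).ι Z (n - 1)
    exact (isZero_rpush_of_isLE (f ∣_ W) hN _ (isQCohD_rd (f ⁻¹ᵁ W).ι hZq) (n - 1) j hj).of_iso
      ((homologyRdIso W.ι ((DCoh.Rpush f).obj Z) j).symm ≪≫
        (homologyFunctor _ j).mapIso (e.app Z))
  have hT' := (DCoh.Rpush f).map_distinguished _ hT
  have e₁ := (HomologySequence.exact₁ _ hT' (i - 1) i (by omega)).map R
  have e₂ := (HomologySequence.exact₂ _ hT' i).map R
  haveI : Mono (R.map ((homologyFunctor Y.Modules i).map ((DCoh.Rpush f).map ψ))) :=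
    e₁.mono_g ((hzero (i - 1) (by omega)).eq_of_src _ _)
  haveI : Epi (R.map ((homologyFunctor Y.Modules i).map ((DCoh.Rpush f).map ψ))) :=
    e₂.epi_f ((hzero i (by omega)).eq_of_tgt _ _)
  exact isIso_of_mono_of_epi _

variable {J : Type u} [SmallCategory J] [IsFiltered J]

omit [QuasiCompact f] [QuasiSeparated f] [DCoh.HasRpush f] in
theorem preservesColimitsOfShape_homology (i : ℤ) :
    PreservesColimitsOfShape J (HomologicalComplex.homologyFunctor X.Modules (ComplexShape.up ℤ) i) := by
  haveI := isGrothendieckAbelian_modules (X := X)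
  haveI : ∀ q, PreservesColimitsOfShape J (𝟭 (CochainComplex X.Modules ℤ) ⋙
      HomologicalComplex.eval X.Modules (ComplexShape.up ℤ) q) := fun q =>
    preservesColimitsOfShape_of_natIso (Functor.leftUnitor _).symm
  haveI : PreservesColimitsOfShape J (𝟭 (CochainComplex X.Modules ℤ) ⋙
      HomologicalComplex.homologyFunctor X.Modules (ComplexShape.up ℤ) i) :=
    H26Tor.preservesColimitsOfShape_homology _ i
  exact preservesColimitsOfShape_of_natIso (Functor.leftUnitor _)

/-- `H^i Rf_*` commutes with filtered colimits of complexes with quasi-coherent cohomology. -/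
theorem nonempty_isColimit_qcoh (C : J ⥤ CochainComplex X.Modules ℤ) [HasColimit C]
    (hC : ∀ j, DCoh.IsQCohD (Q.obj (C.obj j))) (i : ℤ) :
    Nonempty (IsColimit ((G₁ f i).mapCocone (colimit.cocone C))) := by
  haveI := isGrothendieckAbelian_modules (X := X)
  haveI := isGrothendieckAbelian_modules (X := Y)
  haveI := preservesFilteredColimits_pushforward f J
  suffices h : IsIso (colimit.post C (G₁ f i)) by
    haveI := h
    haveI := preservesColimit_of_isIso_post (G₁ f i) C
    exact ⟨isColimitOfPreserves (G₁ f i) (colimit.isColimit C)⟩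
  refine isIso_of_stalk _ fun y => ?_
  obtain ⟨W, hW, hyW, -⟩ := exists_isAffineOpen_mem_and_subset (U := (⊤ : Y.Opens)) (x := y) trivial
  let R := Scheme.Modules.restrictFunctor W.ι
  suffices h : IsIso (R.map (colimit.post C (G₁ f i))) by
    haveI := h
    exact MV.isIso_stalk_of_restrict W _ y hyW
  obtain ⟨N, hN⟩ := isIso_restrict_map f hW
  let n : ℤ := i - N
  let τ := (ComplexShape.embeddingUpIntGE n).truncGEFunctor X.Modules
  let C' := C ⋙ τ
  let α : C ⟶ C' := Functor.whiskerLeft C ((ComplexShape.embeddingUpIntGE n).πTruncGENatTrans X.Modules)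
  have hα : ∀ j q, n ≤ q → IsIso (HomologicalComplex.homologyMap (α.app j) q) := fun j q hq =>
    (quasiIsoAt_iff_isIso_homologyMap _ q).1 (CochainComplex.quasiIsoAt_πTruncGE (C.obj j) n q hq)
  have hge : ∀ j, CochainComplex.IsGE (C'.obj j) n := fun j =>
    inferInstanceAs (((C.obj j).truncGE n).IsGE n)
  let HH := fun q => HomologicalComplex.homologyFunctor X.Modules (ComplexShape.up ℤ) q
  have hH : ∀ (j : J) q, Coh.IsQCoh ((HH q).obj (C.obj j)) := fun j q =>
    isQCoh_iso ((homologyFunctorFactors X.Modules q).app (C.obj j)) (hC j q)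
  have hH' : ∀ (j : J) q, Coh.IsQCoh ((HH q).obj (C'.obj j)) := fun j q => by
    rcases lt_or_ge q n with h | h
    · haveI := hge j
      exact isQCoh_isZero _ (CochainComplex.isZero_of_isGE (C'.obj j) n q h)
    · haveI : IsIso ((HH q).map (α.app j)) := hα j q h
      exact isQCoh_iso (asIso ((HH q).map (α.app j))) (hH j q)
  have hcol : ∀ (D : J ⥤ CochainComplex X.Modules ℤ), (∀ j q, Coh.IsQCoh ((HH q).obj (D.obj j))) →
      DCoh.IsQCohD (Q.obj (colimit D)) := fun D hD q => by
    haveI := preservesColimitsOfShape_homology (X := X) (J := J) q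
    exact isQCoh_iso (((homologyFunctorFactors X.Modules q).app (colimit D)) ≪≫
      preservesColimitIso (HH q) D).symm (isQuasicoherent_colimit (D ⋙ HH q) fun j => hD j q)
  haveI hu : IsIso (R.map ((G₁ f i).map (colimMap α))) :=
    hN (Q.map (colimMap α)) (hcol C hH) (hcol C' hH') n i (fun q hq =>
      isIso_HD_Q_map _ q (by
        haveI := preservesColimitsOfShape_homology (X := X) (J := J) q
        exact isIso_map_colimMap (HH q) α fun j => hα j q hq)) (by omega)
  haveI : PreservesColimitsOfSize.{u, u} R :=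
    (Scheme.Modules.restrictAdjunction W.ι).leftAdjoint_preservesColimits
  haveI hv : IsIso (R.map (colimMap (Functor.whiskerRight α (G₁ f i)))) :=
    isIso_map_colimMap R _ fun j =>
      hN (Q.map (α.app j)) (hC j) (fun q => isQCoh_iso ((homologyFunctorFactors X.Modules q).app (C'.obj j)).symm
        (hH' j q)) n i (fun q hq => isIso_HD_Q_map _ q (hα j q hq)) (by omega)
  obtain ⟨hb⟩ := nonempty_isColimit f (fun D c hc hi p => isZero_rpush_colimit_of_flasque f hc
    (fun j => haveI := hi j; flasque_sh_of_injective _) p) C' (colimit.isColimit C') n hge i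
  haveI : IsIso (colimit.post C' (G₁ f i)) := by
    have : colimit.post C' (G₁ f i) = ((colimit.isColimit (C' ⋙ G₁ f i)).coconePointUniqueUpToIso hb).hom :=
      colimit.hom_ext fun j => by
        rw [colimit.ι_post]
        exact ((colimit.isColimit (C' ⋙ G₁ f i)).comp_coconePointUniqueUpToIso_hom hb j).symm
    rw [this]
    infer_instance
  have sq : colimMap (Functor.whiskerRight α (G₁ f i)) ≫ colimit.post C' (G₁ f i) =
      colimit.post C (G₁ f i) ≫ (G₁ f i).map (colimMap α) := colimit.hom_ext fun j => by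
    rw [ι_colimMap_assoc, colimit.ι_post, colimit.ι_post_assoc, Functor.whiskerRight_app,
      ← Functor.map_comp, ← Functor.map_comp, ι_colimMap]
  haveI : IsIso (R.map (colimit.post C (G₁ f i)) ≫ R.map ((G₁ f i).map (colimMap α))) := by
    rw [← R.map_comp, ← sq, R.map_comp]
    infer_instance
  exact IsIso.of_isIso_comp_right _ (R.map ((G₁ f i).map (colimMap α)))

end Groth.Agent.H16Derived.ColimPush
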