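import Groth.Agent.H16Derived.InjDim
import Groth.Agent.H16Derived.KInjRes.Main
import Mathlib.Algebra.Homology.Factorizations.CM5a
import Mathlib.Algebra.Homology.DerivedCategory.DerivabilityStructureInjectives

/-!
# Functorial bounded below injective resolutions
-/

set_option autoImplicit false
set_option linter.style.haveILetI false

open CategoryTheory CategoryTheory.Limits

universe w v u

namespace Groth.Agent.H16Derived.ColimPush

variable {A : Type u} [Category.{v} A] [Abelian A] [EnoughInjectives A]

omit [EnoughInjectives A] in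
theorem injective_of_retract {P Q : A} [Injective Q] (i : P ⟶ Q) (r : Q ⟶ P) (h : i ≫ r = 𝟙 P) :
    Injective P :=
  ⟨fun {X Y} g f _ => ⟨Injective.factorThru (g ≫ i) f ≫ r, by
    rw [← Category.assoc, Injective.comp_factorThru, Category.assoc, h, Category.comp_id]⟩⟩

theorem injective_truncGE (I : CochainComplex A ℤ) [I.IsKInjective] (hI : ∀ q, Injective (I.X q)) (n : ℤ)
    [I.IsGE n] (q : ℤ) : Injective ((I.truncGE n).X q) := by
  rcases lt_trichotomy q n with hq | rfl | hq
  · exact (CochainComplex.isZero_of_isStrictlyGE (I.truncGE n) n q hq).injective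
  · haveI := HasDerivedCategory.standard A
    obtain ⟨I', r, hr, hinj, hge⟩ :=
      CochainComplex.Plus.modelCategoryQuillen.exists_quasiIso_injective (I.truncGE q) q
    haveI := hinj
    haveI := hge
    haveI : I'.IsKInjective := CochainComplex.isKInjective_of_injective I' q
    haveI := hr
    let a := I.πTruncGE q ≫ r
    haveI : QuasiIso a := inferInstanceAs (QuasiIso (I.πTruncGE q ≫ r))
    haveI : IsIso (DerivedCategory.Q.map a) := (DerivedCategory.isIso_Q_map_iff_quasiIso _ a).2 inferInstance
    obtain ⟨g, hg⟩ := InjDim.exists_chain_map I I' (inv (DerivedCategory.Q.map a))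
    have hQ : DerivedCategory.Q.map (a ≫ g) = DerivedCategory.Q.map (𝟙 I) := by
      rw [Functor.map_comp, hg, IsIso.hom_inv_id, CategoryTheory.Functor.map_id]
    have hK : (HomotopyCategory.quotient A (ComplexShape.up ℤ)).map (a ≫ g) =
        (HomotopyCategory.quotient A (ComplexShape.up ℤ)).map (𝟙 I) :=
      (CochainComplex.IsKInjective.Qh_map_bijective _ I).1 (by
        rw [← cancel_mono ((DerivedCategory.quotientCompQhIso A).hom.app I),
          DerivedCategory.quotientCompQhIso_hom_naturality,
          DerivedCategory.quotientCompQhIso_hom_naturality, hQ])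
    let h := HomotopyCategory.homotopyOfEq _ _ hK
    have hc := h.comm q
    rw [dNext_eq h.hom (show (ComplexShape.up ℤ).Rel q (q + 1) from rfl),
      prevD_eq h.hom (show (ComplexShape.up ℤ).Rel (q - 1) q by simp), HomologicalComplex.id_f] at hc
    haveI : IsIso (I'.pOpcycles q) := I'.isIso_pOpcycles (q - 1) q (by simp)
      ((CochainComplex.isZero_of_isStrictlyGE I' q (q - 1) (by omega)).eq_of_src _ _)
    let i : I.opcycles q ⟶ I'.X q := HomologicalComplex.opcyclesMap a q ≫ inv (I'.pOpcycles q)
    let p := I.pOpcycles q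
    let δ : I.opcycles q ⟶ I.X (q + 1) := I.fromOpcycles q (q + 1)
    haveI := hI (q + 1)
    refine Injective.of_iso (CochainComplex.truncGEXIsoOpcycles I q).symm (injective_of_retract
      (biprod.lift i δ) (biprod.desc (g.f q ≫ p) (-(h.hom (q + 1) q ≫ p))) ?_)
    rw [biprod.lift_desc, ← cancel_epi p, Category.comp_id, Preadditive.comp_add,
      Preadditive.comp_neg, Preadditive.comp_neg]
    have e1 : p ≫ i ≫ g.f q ≫ p = a.f q ≫ g.f q ≫ p := by
      simp only [i, p, Category.assoc, HomologicalComplex.p_opcyclesMap_assoc, IsIso.hom_inv_id_assoc]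
    have e2 : p ≫ δ ≫ h.hom (q + 1) q ≫ p = I.d q (q + 1) ≫ h.hom (q + 1) q ≫ p := by
      simp only [δ, p, HomologicalComplex.p_fromOpcycles_assoc]
    have e3 := congrArg (fun t => t ≫ p) hc
    simp only [HomologicalComplex.comp_f, Preadditive.add_comp, Category.assoc, Category.id_comp] at e3
    rw [show I.d (q - 1) q ≫ p = 0 from I.d_pOpcycles _ _, comp_zero, add_zero] at e3
    rw [e1, e2, e3]
    abel
  · haveI := hI q
    exact Injective.of_iso (CochainComplex.truncGEXIso I n q hq).symm inferInstance

variable [IsGrothendieckAbelian.{v} A]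

/-- Functorial bounded below injective resolutions of complexes with bounded below cohomology. -/
theorem exists_resolution (n : ℤ) :
    ∃ (T : CochainComplex A ℤ ⥤ CochainComplex A ℤ) (η : 𝟭 _ ⟶ T), ∀ M : CochainComplex A ℤ,
      M.IsGE n → QuasiIso (η.app M) ∧ (T.obj M).IsStrictlyGE n ∧ ∀ q, Injective ((T.obj M).X q) := by
  obtain ⟨N, j, hN⟩ := KInjRes.exists_resolution_functor (A := A)
  refine ⟨N ⋙ (ComplexShape.embeddingUpIntGE n).truncGEFunctor A,
    j ≫ Functor.whiskerLeft N ((ComplexShape.embeddingUpIntGE n).πTruncGENatTrans A), fun M hM => ?_⟩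
  obtain ⟨-, hq, hK, hi⟩ := hN M
  haveI := hK
  haveI := hq
  haveI : (N.obj M).IsGE n := by
    rw [CochainComplex.isGE_iff] at hM ⊢
    intro i hi
    exact (HomologicalComplex.exactAt_iff_isZero_homology _ _).2
      (((HomologicalComplex.exactAt_iff_isZero_homology _ _).1 (hM i hi)).of_iso
        (asIso (HomologicalComplex.homologyMap (j.app M) i)).symm)
  haveI h2 : QuasiIso ((N.obj M).πTruncGE n) := inferInstance
  refine ⟨?_, inferInstanceAs (((N.obj M).truncGE n).IsStrictlyGE n),
    injective_truncGE (N.obj M) hi n⟩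
  exact quasiIso_comp (hφ := hq) (hφ' := h2) (j.app M) ((N.obj M).πTruncGE n)

end Groth.Agent.H16Derived.ColimPush
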